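import Groth.Agent.Lib.BivClopen17.Res

/-!
# Bivariant groups of a disjoint union
-/

set_option autoImplicit false
set_option backward.isDefEq.respectTransparency false
set_option linter.style.haveILetI false
set_option linter.unusedSectionVars false

universe u

open CategoryTheory CategoryTheory.Limits AlgebraicGeometry TopologicalSpace
open GrothLib GrothLib.C1 GrothLib.CycFlat GrothLib.Ref1 GrothLib.PBDeg

noncomputable section

namespace GrothLib.BivClopen

/-- Gysin cycles restrict to open subschemes. -/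
theorem c1Cap_res {U T : Scheme.{u}} (ι : U ⟶ T) [IsOpenImmersion ι] {δ : T → ℤ} {δU : U → ℤ}
    (h : Cyc.DeltaCompat ι δU δ) (hT : Cyc.IsSetup T δ) {L : T.Modules} (hL : PicF.IsInvertible L)
    (σ : L.presheaf.obj (Opposite.op ⊤)) {w : (ξ : T) → Cyc.secFibre L ξ} (hw : ∀ ξ, w ξ ≠ 0)
    (α : AlgebraicCycle T ℤ) (a : AlgebraicCycle U ℤ) (ha : ∀ x, a x = α (ι x)) (x : U) :
    Cyc.c1CapFun δ L ⇑α (Cyc.gysinChoice L σ w) (ι x) =
      Cyc.c1CapFun δU ((Scheme.Modules.pullback ι).obj L) ⇑a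
        (Cyc.gysinChoice _ (pullSec ι L σ) (pullChoice ι hL w)) x := by
  haveI := hT.1
  haveI := (setup_openImm ι h hT).1
  have e := c1Cap_pullFun ι hL (setup_openImm ι h hT).2.2 hT.2.2 (shift_openImm ι h) (LF.of_cycle α)
    (gysinChoice_ne_zero (s := σ) hw) x
  rw [pullFun_openImm ι h, pullFun_openImm ι h, show (fun z => α (ι z)) = ⇑a from funext fun z => (ha z).symm,
    show pullChoice ι hL (Cyc.gysinChoice L σ w) = Cyc.gysinChoice _ (pullSec ι L σ) (pullChoice ι hL w) from
      funext fun y => gysinChoice_pullback ι hL w y] at e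
  exact e

variable {X Y : Scheme.{u}} {f : X ⟶ Y} {δX : X → ℤ} {δY : Y → ℤ}
variable {J : Type u} (s : J → Bivar.Sq f δX δY) [hs : ∀ j, IsOpenImmersion (s j).g]

instance openX (j : J) : IsOpenImmersion (s j).g' :=
  MorphismProperty.of_isPullback (s j).isPullback (hs j)

/-- The base of the piece over `j`. -/
abbrev pcY (t : Bivar.Sq f δX δY) (j : J) : Scheme.{u} := pullback t.g (s j).g
/-- The source of the piece over `j`. -/
abbrev pcX (t : Bivar.Sq f δX δY) (j : J) : Scheme.{u} := pullback t.g' (s j).g'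

/-- The inclusion of a piece. -/
abbrev iY (t : Bivar.Sq f δX δY) (j : J) : pcY s t j ⟶ t.Y' := pullback.fst t.g (s j).g
/-- The inclusion of a piece. -/
abbrev iX (t : Bivar.Sq f δX δY) (j : J) : pcX s t j ⟶ t.X' := pullback.fst t.g' (s j).g'

/-- The morphism of a piece. -/
def pcf (t : Bivar.Sq f δX δY) (j : J) : pcX s t j ⟶ pcY s t j :=
  pullback.lift (iX s t j ≫ t.f') (pullback.snd _ _ ≫ (s j).f') (by
    rw [Category.assoc, Category.assoc, t.isPullback.w, (s j).isPullback.w, pullback.condition_assoc])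

theorem pcf_fst (t : Bivar.Sq f δX δY) (j : J) : pcf s t j ≫ iY s t j = iX s t j ≫ t.f' := pullback.lift_fst _ _ _

theorem pcf_snd (t : Bivar.Sq f δX δY) (j : J) :
    pcf s t j ≫ pullback.snd t.g (s j).g = pullback.snd _ _ ≫ (s j).f' := pullback.lift_snd _ _ _

theorem isPullback_pcf (t : Bivar.Sq f δX δY) (j : J) : IsPullback (iX s t j) (pcf s t j) t.f' (iY s t j) := by
  refine IsPullback.of_bot ?_ (pcf_fst s t j).symm (IsPullback.of_hasPullback t.g (s j).g)
  rw [pcf_snd, t.isPullback.w]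
  exact (IsPullback.of_hasPullback t.g' (s j).g').paste_vert (s j).isPullback.flip

theorem isPullback_pc (t : Bivar.Sq f δX δY) (j : J) :
    IsPullback (pcf s t j) (pullback.snd t.g' (s j).g') (pullback.snd t.g (s j).g) (s j).f' := by
  refine IsPullback.of_bot ?_ (pcf_snd s t j) (s j).isPullback
  rw [← pullback.condition, ← pullback.condition]
  exact (isPullback_pcf s t j).flip.paste_vert t.isPullback

variable (hX : Cyc.IsSetup X δX) (hY : Cyc.IsSetup Y δY)

/-- The square over `(s j).f'` of a piece. -/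
@[reducible] def piece (t : Bivar.Sq f δX δY) (j : J) : Bivar.Sq (s j).f' (s j).δX' (s j).δY' where
  Y' := pcY s t j
  X' := pcX s t j
  g := pullback.snd _ _
  f' := pcf s t j
  g' := pullback.snd _ _
  isPullback := isPullback_pc s t j
  lft := by haveI := t.lft; infer_instance
  δY' := fun x => t.δY' (iY s t j x)
  δX' := fun x => t.δX' (iX s t j x)
  compatY := by
    haveI := (sq_setupY hY t).1
    haveI := t.lft
    exact C1.deltaCompat_of_comp (pullback.snd _ _) (s j).g (iY s t j ≫ t.g) pullback.condition.symm (s j).compatY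
      (Bivar.deltaCompat_comp (iY s t j) t.g _ t.δY' δY (compat_openImm _ _) t.compatY)
  compatX := by
    haveI := (sq_setupX hX t).1
    haveI := sq_lftX t
    haveI := sq_lftX (s j)
    exact C1.deltaCompat_of_comp (pullback.snd _ _) (s j).g' (iX s t j ≫ t.g') pullback.condition.symm (s j).compatX
      (Bivar.deltaCompat_comp (iX s t j) t.g' _ t.δX' δX (compat_openImm _ _) t.compatX)

theorem compatY_pc (t : Bivar.Sq f δX δY) (j : J) :
    Cyc.DeltaCompat (iY s t j) (piece s hX hY t j).δY' t.δY' :=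
  haveI := (sq_setupY hY t).1
  compat_openImm _ _

theorem compatX_pc (t : Bivar.Sq f δX δY) (j : J) :
    Cyc.DeltaCompat (iX s t j) (piece s hX hY t j).δX' t.δX' :=
  haveI := (sq_setupX hX t).1
  compat_openImm _ _

/-- Restriction to a piece. -/
def resY (t : Bivar.Sq f δX δY) (j : J) (k : ℤ) :
    ChowOps.CH t.Y' t.δY' k →+ ChowOps.CH (piece s hX hY t j).Y' (piece s hX hY t j).δY' k :=
  resHom (iY s t j) (compatY_pc s hX hY t j) (sq_setupY hY t) k

/-- Restriction to a piece. -/
def resX (t : Bivar.Sq f δX δY) (j : J) (k : ℤ) :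
    ChowOps.CH t.X' t.δX' k →+ ChowOps.CH (piece s hX hY t j).X' (piece s hX hY t j).δX' k :=
  resHom (iX s t j) (compatX_pc s hX hY t j) (sq_setupX hX t) k

theorem resX_res (t : Bivar.Sq f δX δY) (j : J) {p : ℤ} (c : Bivar.Cl p f δX δY) (k : ℤ)
    (a : ChowOps.CH t.Y' t.δY' k) :
    resX s hX hY t j (k - p) (c.op t k a) = (c.res (s j)).op (piece s hX hY t j) k (resY s hX hY t j k a) :=
  (op_res hX hY c t ((s j).paste (piece s hX hY t j)) (iY s t j) (iX s t j) pullback.condition
    (isPullback_pcf s t j).w pullback.condition k a).symm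

variable (hdisj : ∀ i j : J, i ≠ j → Disjoint (Set.range (s i).g) (Set.range (s j).g))
  (hcov : ∀ y : Y, ∃ j, y ∈ Set.range (s j).g)

include hdisj in
theorem disjX (t : Bivar.Sq f δX δY) (i j : J) (h : i ≠ j) :
    Disjoint (Set.range (iX s t i)) (Set.range (iX s t j)) := by
  refine Set.disjoint_left.2 fun x hi hj => ?_
  obtain ⟨a, rfl⟩ := hi
  obtain ⟨b, hb⟩ := hj
  refine Set.disjoint_left.1 (hdisj i j h) ⟨(pullback.snd t.g (s i).g) (pcf s t i a), rfl⟩
    ⟨(pullback.snd t.g (s j).g) (pcf s t j b), ?_⟩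
  simp only [← Scheme.Hom.comp_apply]
  rw [Category.assoc, Category.assoc, ← pullback.condition, ← pullback.condition, ← Category.assoc, pcf_fst,
    ← Category.assoc, pcf_fst]
  simp only [Scheme.Hom.comp_apply]
  rw [hb]

include hdisj hcov in
theorem bijective_resX (t : Bivar.Sq f δX δY) (k : ℤ) :
    Function.Bijective (AddMonoidHom.pi fun j => resX s hX hY t j k) :=
  bijective_res (iX s t) (disjX s hdisj t) (fun x => by
    obtain ⟨j, hj⟩ := hcov (t.g (t.f' x))
    exact ⟨j, mem_range_of_isPullback (isPullback_pcf s t j)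
      (mem_range_of_isPullback (IsPullback.of_hasPullback t.g (s j).g) hj)⟩) (compatX_pc s hX hY t)
    (sq_setupX hX t) k

include hX hY hdisj hcov in
/-- A bivariant class is determined by its restrictions to the pieces. -/
theorem res_injective {p : ℤ} : Function.Injective (fun c : Bivar.Cl p f δX δY => fun j : J => c.res (s j)) := by
  intro c d hcd
  refine Bivar.Cl.ext (funext fun t => funext fun k => AddMonoidHom.ext fun a =>
    (bijective_resX s hX hY hdisj hcov t (k - p)).1 (funext fun j => ?_))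
  show resX s hX hY t j (k - p) (c.op t k a) = resX s hX hY t j (k - p) (d.op t k a)
  have hj : c.res (s j) = d.res (s j) := congrFun hcd j
  rw [resX_res, resX_res, hj]

variable {p : ℤ} (cf : ∀ j, Bivar.Cl p (s j).f' (s j).δX' (s j).δY')

/-- The glued operation. -/
def glueOp (t : Bivar.Sq f δX δY) (k : ℤ) : ChowOps.CH t.Y' t.δY' k →+ ChowOps.CH t.X' t.δX' (k - p) :=
  (AddEquiv.ofBijective _ (bijective_resX s hX hY hdisj hcov t (k - p))).symm.toAddMonoidHom.comp
    (AddMonoidHom.pi fun j => ((cf j).op (piece s hX hY t j) k).comp (resY s hX hY t j k))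

theorem resX_glueOp (t : Bivar.Sq f δX δY) (j : J) (k : ℤ) (a : ChowOps.CH t.Y' t.δY' k) :
    resX s hX hY t j (k - p) (glueOp s hX hY hdisj hcov cf t k a) =
      (cf j).op (piece s hX hY t j) k (resY s hX hY t j k a) :=
  congrFun ((AddEquiv.ofBijective _ (bijective_resX s hX hY hdisj hcov t (k - p))).apply_symm_apply
    ((AddMonoidHom.pi fun j => ((cf j).op (piece s hX hY t j) k).comp (resY s hX hY t j k)) a)) j

theorem glueOp_eq (t : Bivar.Sq f δX δY) (k : ℤ) {α : AlgebraicCycle t.Y' ℤ} (hα : α ∈ Cyc.Zk t.Y' t.δY' k)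
    {β : AlgebraicCycle t.X' ℤ} (hβ : β ∈ Cyc.Zk t.X' t.δX' (k - p))
    (h : ∀ j, ∃ (a : AlgebraicCycle (pcY s t j) ℤ) (ha : a ∈ Cyc.Zk (pcY s t j) (piece s hX hY t j).δY' k)
      (b : AlgebraicCycle (pcX s t j) ℤ) (hb : b ∈ Cyc.Zk (pcX s t j) (piece s hX hY t j).δX' (k - p)),
      (∀ x, a x = α (iY s t j x)) ∧ (∀ x, b x = β (iX s t j x)) ∧
        (cf j).op (piece s hX hY t j) k (ChowOps.cl a ha) = ChowOps.cl b hb) :
    glueOp s hX hY hdisj hcov cf t k (ChowOps.cl α hα) = ChowOps.cl β hβ := by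
  refine (bijective_resX s hX hY hdisj hcov t (k - p)).1 (funext fun j => ?_)
  show resX s hX hY t j (k - p) _ = resX s hX hY t j (k - p) _
  obtain ⟨a, ha, b, hb, e₁, e₂, e₃⟩ := h j
  rw [resX_glueOp, resY, resX, resHom_cl (iY s t j) _ _ hα ha e₁, resHom_cl (iX s t j) _ _ hβ hb e₂, e₃]

/-! ### Morphisms of pieces -/

/-- The restriction of a morphism to the pieces. -/
def mY (t t' : Bivar.Sq f δX δY) (h : t'.Y' ⟶ t.Y') (w : h ≫ t.g = t'.g) (j : J) : pcY s t' j ⟶ pcY s t j :=
  pullback.lift (iY s t' j ≫ h) (pullback.snd _ _) (by rw [Category.assoc, w]; exact pullback.condition)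

/-- The restriction of a morphism to the pieces. -/
def mX (t t' : Bivar.Sq f δX δY) (h' : t'.X' ⟶ t.X') (w : h' ≫ t.g' = t'.g') (j : J) :
    pcX s t' j ⟶ pcX s t j :=
  pullback.lift (iX s t' j ≫ h') (pullback.snd _ _) (by rw [Category.assoc, w]; exact pullback.condition)

theorem mY_fst {t t' : Bivar.Sq f δX δY} (h : t'.Y' ⟶ t.Y') (w : h ≫ t.g = t'.g) (j : J) :
    mY s t t' h w j ≫ iY s t j = iY s t' j ≫ h := pullback.lift_fst _ _ _

theorem mY_snd {t t' : Bivar.Sq f δX δY} (h : t'.Y' ⟶ t.Y') (w : h ≫ t.g = t'.g) (j : J) :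
    mY s t t' h w j ≫ pullback.snd _ _ = pullback.snd _ _ := pullback.lift_snd _ _ _

theorem mX_fst {t t' : Bivar.Sq f δX δY} (h' : t'.X' ⟶ t.X') (w : h' ≫ t.g' = t'.g') (j : J) :
    mX s t t' h' w j ≫ iX s t j = iX s t' j ≫ h' := pullback.lift_fst _ _ _

theorem mX_snd {t t' : Bivar.Sq f δX δY} (h' : t'.X' ⟶ t.X') (w : h' ≫ t.g' = t'.g') (j : J) :
    mX s t t' h' w j ≫ pullback.snd _ _ = pullback.snd _ _ := pullback.lift_snd _ _ _

theorem isPullback_mY {t t' : Bivar.Sq f δX δY} (h : t'.Y' ⟶ t.Y') (w : h ≫ t.g = t'.g) (j : J) :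
    IsPullback (iY s t' j) (mY s t t' h w j) h (iY s t j) := by
  refine IsPullback.of_bot ?_ (mY_fst s h w j).symm (IsPullback.of_hasPullback t.g (s j).g)
  rw [mY_snd, w]
  exact IsPullback.of_hasPullback t'.g (s j).g

theorem isPullback_mX {t t' : Bivar.Sq f δX δY} (h' : t'.X' ⟶ t.X') (w : h' ≫ t.g' = t'.g') (j : J) :
    IsPullback (iX s t' j) (mX s t t' h' w j) h' (iX s t j) := by
  refine IsPullback.of_bot ?_ (mX_fst s h' w j).symm (IsPullback.of_hasPullback t.g' (s j).g')
  rw [mX_snd, w]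
  exact IsPullback.of_hasPullback t'.g' (s j).g'

theorem m_comm {t t' : Bivar.Sq f δX δY} {h : t'.Y' ⟶ t.Y'} {h' : t'.X' ⟶ t.X'} (w₁ : h ≫ t.g = t'.g)
    (w₂ : h' ≫ t.f' = t'.f' ≫ h) (w₃ : h' ≫ t.g' = t'.g') (j : J) :
    mX s t t' h' w₃ j ≫ pcf s t j = pcf s t' j ≫ mY s t t' h w₁ j := by
  apply pullback.hom_ext
  · simp only [Category.assoc]
    rw [pcf_fst, ← Category.assoc, mX_fst, Category.assoc, w₂, mY_fst, ← Category.assoc, ← Category.assoc, pcf_fst]
  · simp only [Category.assoc]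
    rw [pcf_snd, ← Category.assoc, mX_snd, mY_snd, pcf_snd]

include hX hY hdisj hcov in
theorem exists_glue : ∃ c : Bivar.Cl p f δX δY, ∀ (t : Bivar.Sq f δX δY) (j : J) (k : ℤ)
    (a : ChowOps.CH t.Y' t.δY' k), resX s hX hY t j (k - p) (c.op t k a) =
      (cf j).op (piece s hX hY t j) k (resY s hX hY t j k a) := by
  refine ⟨{ op := glueOp s hX hY hdisj hcov cf, push := ?_, pull := ?_, gysin := ?_ }, fun t j k a =>
    resX_glueOp s hX hY hdisj hcov cf t j k a⟩
  · intro t t' h _ h' _ w₁ w₂ w₃ k α hα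
    haveI : ∀ j, IsProper (mY s t t' h w₁ j) := fun j =>
      MorphismProperty.of_isPullback (isPullback_mY s h w₁ j) inferInstance
    haveI : ∀ j, IsProper (mX s t t' h' w₃ j) := fun j =>
      MorphismProperty.of_isPullback (isPullback_mX s h' w₃ j) inferInstance
    choose β hβ e₁ e₂ using fun j => (cf j).push (piece s hX hY t j) (piece s hX hY t' j) (mY s t t' h w₁ j)
      (mX s t t' h' w₃ j) (mY_snd s h w₁ j) (m_comm s w₁ w₂ w₃ j) (mX_snd s h' w₃ j) k (resCyc (iY s t' j) α)
      (resCyc_mem _ (compatY_pc s hX hY t' j) hα)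
    obtain ⟨γ, hγ⟩ := exists_glueCyc (iX s t') (disjX s hdisj t') (fun x => by
      obtain ⟨j, hj⟩ := hcov (t'.g (t'.f' x))
      exact ⟨j, mem_range_of_isPullback (isPullback_pcf s t' j)
        (mem_range_of_isPullback (IsPullback.of_hasPullback t'.g (s j).g) hj)⟩) β
    have hγm : γ ∈ Cyc.Zk t'.X' t'.δX' (k - p) := fun x hx => by
      obtain ⟨j, hj⟩ := hcov (t'.g (t'.f' x))
      obtain ⟨y, rfl⟩ := mem_range_of_isPullback (isPullback_pcf s t' j)
        (mem_range_of_isPullback (IsPullback.of_hasPullback t'.g (s j).g) hj)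
      rw [hγ]
      exact hβ j y hx
    refine ⟨γ, hγm, glueOp_eq s hX hY hdisj hcov cf t' k hα hγm fun j =>
      ⟨_, _, β j, hβ j, fun _ => rfl, fun x => (hγ j x).symm, e₁ j⟩, ?_⟩
    refine glueOp_eq s hX hY hdisj hcov cf t k _ _ fun j =>
      ⟨_, _, _, _, fun x => ?_, fun x => ?_, e₂ j⟩
    · haveI := (sq_setupY hY t).1
      exact (congrFun ((pullFun_openImm (iY s t j) (compatY_pc s hX hY t j) _).symm.trans
        (BasePush.pullFun_map (isPullback_mY s h w₁ j).flip (sq_setupY (sq_setupY hY (s j)) (piece s hX hY t j)).2.2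
          (sq_compat_hom w₁) (sq_compat_hom (s := piece s hX hY t j) (t := piece s hX hY t' j) (mY_snd s h w₁ j))
          (shift_openImm _ (compatY_pc s hX hY t j)) α (resCyc (iY s t' j) α)
          (pullFun_openImm _ (compatY_pc s hX hY t' j) _).symm)) x).symm
    · haveI := (sq_setupX hX t).1
      exact (congrFun ((pullFun_openImm (iX s t j) (compatX_pc s hX hY t j) _).symm.trans
        (BasePush.pullFun_map (isPullback_mX s h' w₃ j).flip (sq_setupX (sq_setupX hX (s j)) (piece s hX hY t j)).2.2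
          (sq_compat_hom' w₃) (sq_compat_hom' (s := piece s hX hY t j) (t := piece s hX hY t' j) (mX_snd s h' w₃ j))
          (shift_openImm _ (compatX_pc s hX hY t j)) γ (β j)
          ((funext fun x => (hγ j x).symm).trans (pullFun_openImm _ (compatX_pc s hX hY t' j) _).symm))) x).symm
  · intro t t' h _ h' _ r hr hr' w₁ w₂ w₃ k α hα
    haveI := sq_lft_hom w₁
    haveI := sq_lft_hom' w₃
    haveI : ∀ j, Flat (mY s t t' h w₁ j) := fun j =>
      MorphismProperty.of_isPullback (isPullback_mY s h w₁ j) inferInstance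
    haveI : ∀ j, Flat (mX s t t' h' w₃ j) := fun j =>
      MorphismProperty.of_isPullback (isPullback_mX s h' w₃ j) inferInstance
    haveI : ∀ j, LocallyOfFiniteType (mY s t t' h w₁ j) := fun j =>
      MorphismProperty.of_isPullback (isPullback_mY s h w₁ j) inferInstance
    haveI : ∀ j, LocallyOfFiniteType (mX s t t' h' w₃ j) := fun j =>
      MorphismProperty.of_isPullback (isPullback_mX s h' w₃ j) inferInstance
    choose β hβ e₁ H using fun j => (cf j).pull (piece s hX hY t j) (piece s hX hY t' j) (mY s t t' h w₁ j)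
      (mX s t t' h' w₃ j) r (hasRelDim_of_isPullback (isPullback_mY s h w₁ j) hr)
      (hasRelDim_of_isPullback (isPullback_mX s h' w₃ j) hr')
      (mY_snd s h w₁ j) (m_comm s w₁ w₂ w₃ j) (mX_snd s h' w₃ j) k (resCyc (iY s t j) α)
      (resCyc_mem _ (compatY_pc s hX hY t j) hα)
    obtain ⟨γ, hγ⟩ := exists_glueCyc (iX s t) (disjX s hdisj t) (fun x => by
      obtain ⟨j, hj⟩ := hcov (t.g (t.f' x))
      exact ⟨j, mem_range_of_isPullback (isPullback_pcf s t j)
        (mem_range_of_isPullback (IsPullback.of_hasPullback t.g (s j).g) hj)⟩) β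
    have hγm : γ ∈ Cyc.Zk t.X' t.δX' (k - p) := fun x hx => by
      obtain ⟨j, hj⟩ := hcov (t.g (t.f' x))
      obtain ⟨y, rfl⟩ := mem_range_of_isPullback (isPullback_pcf s t j)
        (mem_range_of_isPullback (IsPullback.of_hasPullback t.g (s j).g) hj)
      rw [hγ]
      exact hβ j y hx
    refine ⟨γ, hγm, glueOp_eq s hX hY hdisj hcov cf t k hα hγm fun j =>
      ⟨_, _, β j, hβ j, fun _ => rfl, fun x => (hγ j x).symm, e₁ j⟩, fun α₁ hα₁c hα₁ => ?_⟩
    haveI := (sq_setupX hX t).1
    haveI := (sq_setupX hX t').1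
    haveI := (sq_setupY hY t).1
    haveI := (sq_setupY hY t').1
    have hsY : ∀ x, MaxFib h x → t'.δY' x = t.δY' (h x) + (r : ℤ) :=
      CycFlat.shift_of_hasRelDim h hr (sq_compat_hom w₁)
    have hsX : ∀ x, MaxFib h' x → t'.δX' x = t.δX' (h' x) + (r : ℤ) :=
      CycFlat.shift_of_hasRelDim h' hr' (sq_compat_hom' w₃)
    let γ₁ := pullCyc h' (sq_setupX hX t').2.2 hsX γ
    have hγ₁ : γ₁ ∈ Cyc.Zk t'.X' t'.δX' (k + r - p) := by
      have := Bivar.pullFun_mem_Zk h' t'.δX' t.δX' r (k - p) hγm γ₁ rfl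
      rwa [show k + (r : ℤ) - p = k - p + r by ring]
    refine ⟨γ₁, hγ₁, rfl, glueOp_eq s hX hY hdisj hcov cf t' (k + r) hα₁ hγ₁ fun j => ?_⟩
    -- pulling back to the piece in two ways
    have eY : ⇑(resCyc (iY s t' j) α₁) = Cyc.pullFun (mY s t t' h w₁ j) (piece s hX hY t' j).δY'
        (piece s hX hY t j).δY' r ⇑(resCyc (iY s t j) α) := by
      haveI := (setup_openImm _ (compatY_pc s hX hY t j) (sq_setupY hY t)).1
      rw [show ⇑(resCyc (iY s t j) α) = fun x => α (iY s t j x) from rfl,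
        ← pullFun_openImm (iY s t j) (compatY_pc s hX hY t j),
        show ⇑(resCyc (iY s t' j) α₁) = fun x => α₁ (iY s t' j x) from rfl,
        ← pullFun_openImm (iY s t' j) (compatY_pc s hX hY t' j), hα₁c,
        ← pullFun_comp _ _ (setup_openImm _ (compatY_pc s hX hY t' j) (sq_setupY hY t')).2.2
          (setup_openImm _ (compatY_pc s hX hY t j) (sq_setupY hY t)).2.2 (shift_openImm _ (compatY_pc s hX hY t j))
          (CycFlat.shift_of_hasRelDim _ (hasRelDim_of_isPullback (isPullback_mY s h w₁ j) hr)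
            (sq_compat_hom (s := piece s hX hY t j) (t := piece s hX hY t' j) (mY_snd s h w₁ j))),
        ← pullFun_comp _ _ (setup_openImm _ (compatY_pc s hX hY t' j) (sq_setupY hY t')).2.2
          (sq_setupY hY t').2.2 hsY (shift_openImm _ (compatY_pc s hX hY t' j)), mY_fst, add_comm]
    obtain ⟨β₁, hβ₁, hc, e⟩ := H j (resCyc (iY s t' j) α₁) eY (resCyc_mem _ (compatY_pc s hX hY t' j) hα₁)
    refine ⟨_, _, β₁, hβ₁, fun _ => rfl, fun x => ?_, e⟩
    haveI := (setup_openImm _ (compatX_pc s hX hY t j) (sq_setupX hX t)).1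
    show β₁ x = (fun z => γ₁ (iX s t' j z)) x
    rw [hc, show ⇑(β j) = fun z => γ (iX s t j z) from funext fun z => (hγ j z).symm,
      ← pullFun_openImm (iX s t j) (compatX_pc s hX hY t j),
      ← pullFun_openImm (iX s t' j) (compatX_pc s hX hY t' j), show ⇑γ₁ = Cyc.pullFun h' t'.δX' t.δX' r ⇑γ from rfl,
      ← pullFun_comp _ _ (setup_openImm _ (compatX_pc s hX hY t' j) (sq_setupX hX t')).2.2
        (setup_openImm _ (compatX_pc s hX hY t j) (sq_setupX hX t)).2.2 (shift_openImm _ (compatX_pc s hX hY t j))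
        (CycFlat.shift_of_hasRelDim _ (hasRelDim_of_isPullback (isPullback_mX s h' w₃ j) hr')
          (sq_compat_hom' (s := piece s hX hY t j) (t := piece s hX hY t' j) (mX_snd s h' w₃ j))),
      ← pullFun_comp _ _ (setup_openImm _ (compatX_pc s hX hY t' j) (sq_setupX hX t')).2.2
        (sq_setupX hX t').2.2 hsX (shift_openImm _ (compatX_pc s hX hY t' j)), mX_fst, add_comm]
  · intro t t' i _ i' _ w₁ w₂ w₃ L hL σ hσ τ hτ k α hα
    haveI : ∀ j, IsClosedImmersion (mY s t t' i w₁ j) := fun j =>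
      MorphismProperty.of_isPullback (isPullback_mY s i w₁ j) inferInstance
    haveI : ∀ j, IsClosedImmersion (mX s t t' i' w₃ j) := fun j =>
      MorphismProperty.of_isPullback (isPullback_mX s i' w₃ j) inferInstance
    have hN := C1.isInvertible_pullback t.f' hL
    let e : ∀ j, (Scheme.Modules.pullback (iX s t j)).obj ((Scheme.Modules.pullback t.f').obj L) ≅
        (Scheme.Modules.pullback (pcf s t j)).obj ((Scheme.Modules.pullback (iY s t j)).obj L) := fun j =>
      (Scheme.Modules.pullbackComp (iX s t j) t.f').app L ≪≫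
        (Scheme.Modules.pullbackCongr (pcf_fst s t j).symm).app L ≪≫
          ((Scheme.Modules.pullbackComp (pcf s t j) (iY s t j)).app L).symm
    choose β hβ e₁ H using fun j => (cf j).gysin (piece s hX hY t j) (piece s hX hY t' j) (mY s t t' i w₁ j)
      (mX s t t' i' w₃ j) (mY_snd s i w₁ j) (m_comm s w₁ w₂ w₃ j) (mX_snd s i' w₃ j)
      ((Scheme.Modules.pullback (iY s t j)).obj L) (C1.isInvertible_pullback _ hL) (pullSec (iY s t j) L σ)
      (isZeroSchemeOf_of_isPullback (isPullback_mY s i w₁ j) hL hσ)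
      (isoSec (e j) (pullSec (iX s t j) _ τ))
      (isZeroSchemeOf_iso (e j) (C1.isInvertible_pullback _ hN)
        (isZeroSchemeOf_of_isPullback (isPullback_mX s i' w₃ j) hN hτ))
      k (resCyc (iY s t j) α) (resCyc_mem _ (compatY_pc s hX hY t j) hα)
    obtain ⟨γ, hγ⟩ := exists_glueCyc (iX s t) (disjX s hdisj t) (fun x => by
      obtain ⟨j, hj⟩ := hcov (t.g (t.f' x))
      exact ⟨j, mem_range_of_isPullback (isPullback_pcf s t j)
        (mem_range_of_isPullback (IsPullback.of_hasPullback t.g (s j).g) hj)⟩) β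
    have hγm : γ ∈ Cyc.Zk t.X' t.δX' (k - p) := fun x hx => by
      obtain ⟨j, hj⟩ := hcov (t.g (t.f' x))
      obtain ⟨y, rfl⟩ := mem_range_of_isPullback (isPullback_pcf s t j)
        (mem_range_of_isPullback (IsPullback.of_hasPullback t.g (s j).g) hj)
      rw [hγ]
      exact hβ j y hx
    refine ⟨γ, hγm, glueOp_eq s hX hY hdisj hcov cf t k hα hγm fun j =>
      ⟨_, _, β j, hβ j, fun _ => rfl, fun x => (hγ j x).symm, e₁ j⟩, fun w hw η hηc hη w' hw' => ?_⟩
    haveI := (sq_setupX hX t).1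
    haveI := (sq_setupX hX t').1
    let ζ : AlgebraicCycle t'.X' ℤ := toCycle _ (lf_comp i'
      (lf_c1Cap (sq_setupX hX t).2.2 hN (LF.of_cycle γ) (gysinChoice_ne_zero (s := τ) hw')))
    have hζ : ζ ∈ Cyc.Zk t'.X' t'.δX' (k - 1 - p) := fun d hd => by
      by_contra h0
      refine hd ?_
      rw [delta_closed (sq_compat_hom' w₃)]
      exact c1Cap_mem (fun ξ hξ => by rw [zk_supp hγm ξ hξ]; ring) _ h0
    refine ⟨ζ, hζ, fun _ => rfl, glueOp_eq s hX hY hdisj hcov cf t' (k - 1) hη hζ fun j => ?_⟩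
    let v := fun ξ => isoFib (e j) ξ (pullChoice (iX s t j) hN w' ξ)
    have hv : ∀ ξ, v ξ ≠ 0 := fun ξ => isoFib_ne_zero _ (C1.isInvertible_pullback _ hN)
      (pullFib_ne_zero (iX s t j) hN (hw' _))
    obtain ⟨z, hz, hzc, ez⟩ := H j (pullChoice (iY s t j) hL w) (fun ξ => pullFib_ne_zero (iY s t j) hL (hw _))
      (resCyc (iY s t' j) η) (fun d => by
        rw [resCyc_apply, hηc, show i (iY s t' j d) = iY s t j (mY s t t' i w₁ j d) by
          rw [← Scheme.Hom.comp_apply, ← mY_fst s i w₁ j, Scheme.Hom.comp_apply]]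
        exact c1Cap_res (iY s t j) (compatY_pc s hX hY t j) (sq_setupY hY t) hL σ hw α _ (fun _ => rfl) _)
      (resCyc_mem _ (compatY_pc s hX hY t' j) hη) v hv
    refine ⟨_, _, z, hz, fun _ => rfl, fun x => ?_, ez⟩
    show z x = Cyc.c1CapFun t.δX' _ ⇑γ (Cyc.gysinChoice _ τ w') (i' (iX s t' j x))
    rw [show i' (iX s t' j x) = iX s t j (mX s t t' i' w₃ j x) by
        rw [← Scheme.Hom.comp_apply, ← mX_fst s i' w₃ j, Scheme.Hom.comp_apply],
      c1Cap_res (iX s t j) (compatX_pc s hX hY t j) (sq_setupX hX t) hN τ hw' γ (β j)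
        (fun y => (hγ j y).symm), hzc]
    show Cyc.c1CapFun _ _ _ (Cyc.gysinChoice _ _ fun ξ => isoFib (e j) ξ (pullChoice (iX s t j) hN w' ξ)) _ = _
    rw [← gysinChoice_iso (e j) (C1.isInvertible_pullback _ hN)]
    haveI := (setup_openImm _ (compatX_pc s hX hY t j) (sq_setupX hX t)).1
    rw [c1Cap_iso (e j) (setup_openImm _ (compatX_pc s hX hY t j) (sq_setupX hX t)).2.2
      (C1.isInvertible_pullback _ hN) (C1.isInvertible_pullback _ (C1.isInvertible_pullback _ hL))]

include hX hY hdisj hcov in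
/-- Bivariant classes on the pieces glue. -/
theorem res_surjective : Function.Surjective (fun c : Bivar.Cl p f δX δY => fun j : J => c.res (s j)) := by
  intro cf
  obtain ⟨c, hc⟩ := exists_glue s hX hY hdisj hcov cf
  refine ⟨c, funext fun j => Bivar.Cl.ext (funext fun t => funext fun k => AddMonoidHom.ext fun a => ?_)⟩
  have hXj := sq_setupX hX (s j)
  have hYj := sq_setupY hY (s j)
  refine (bijective_resX s hX hY hdisj hcov ((s j).paste t) (k - p)).1 (funext fun i => ?_)
  show resX s hX hY ((s j).paste t) i (k - p) (c.op ((s j).paste t) k a) =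
    resX s hX hY ((s j).paste t) i (k - p) ((cf j).op t k a)
  rw [hc]
  by_cases hij : i = j
  · subst hij
    exact op_res hXj hYj (cf i) t (piece s hX hY ((s i).paste t) i) (iY s _ i) (iX s _ i)
      ((cancel_mono (s i).g).1 (by rw [Category.assoc]; exact pullback.condition))
      (isPullback_pcf s _ i).w
      ((cancel_mono (s i).g').1 (by rw [Category.assoc]; exact pullback.condition)) k a
  · have hempty : IsEmpty (pcX s ((s j).paste t) i) := ⟨fun x =>
      Set.disjoint_left.1 (hdisj i j hij) ⟨(pullback.snd ((s j).paste t).g (s i).g) (pcf s ((s j).paste t) i x), rfl⟩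
        ⟨t.g (iY s ((s j).paste t) i (pcf s _ i x)), by
          simp only [← Scheme.Hom.comp_apply]
          simp only [Category.assoc]
          rw [show iY s ((s j).paste t) i ≫ t.g ≫ (s j).g = pullback.snd _ _ ≫ (s i).g from
            pullback.condition (f := ((s j).paste t).g) (g := (s i).g)]⟩⟩
    haveI : Subsingleton (ChowOps.CH (piece s hX hY ((s j).paste t) i).X'
        (piece s hX hY ((s j).paste t) i).δX' (k - p)) := by
      haveI := hempty
      exact ⟨fun x y => by
        obtain ⟨a, ha, rfl⟩ := Bivar.exists_rep x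
        obtain ⟨b, hb, rfl⟩ := Bivar.exists_rep y
        exact Bivar.cl_congr (by ext z; exact isEmptyElim z) _ _⟩
    exact Subsingleton.elim _ _

end GrothLib.BivClopen
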