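import Groth.Agent.Lib.PBDeg17.BivLocal
import Groth.Agent.Lib.PBDeg17.BivGysin

/-!
# Chow groups of disjoint unions, and bivariant classes on open pieces
-/

set_option autoImplicit false
set_option backward.isDefEq.respectTransparency false
set_option linter.style.haveILetI false

universe u

open CategoryTheory CategoryTheory.Limits AlgebraicGeometry TopologicalSpace
open GrothLib GrothLib.C1 GrothLib.CycFlat GrothLib.Ref1 GrothLib.PBDeg

noncomputable section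

namespace GrothLib.BivClopen

/-- The dimension function induced on an open subscheme. -/
theorem compat_openImm {U T : Scheme.{u}} (ι : U ⟶ T) [IsOpenImmersion ι] [IsLocallyNoetherian T] (δ : T → ℤ) :
    Cyc.DeltaCompat ι (fun x => δ (ι x)) δ := by
  obtain ⟨d, hd⟩ := CycP1.exists_deltaCompat ι δ
  have e := residueDegree_openImm ι hd
  rw [e] at hd
  exact hd

variable {U T : Scheme.{u}} (ι : U ⟶ T) [IsOpenImmersion ι] {δ : T → ℤ} {δU : U → ℤ}

theorem shift_openImm (h : Cyc.DeltaCompat ι δU δ) (x : U) (_ : MaxFib ι x) :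
    δU x = δ (ι x) + ((0 : ℕ) : ℤ) := by
  rw [residueDegree_openImm ι h]; simp

theorem setup_openImm (h : Cyc.DeltaCompat ι δU δ) (hT : Cyc.IsSetup T δ) : Cyc.IsSetup U δU :=
  isSetup_of_lft hT ι h

/-- Restriction of cycles to an open subscheme. -/
def resCyc (a : AlgebraicCycle T ℤ) : AlgebraicCycle U ℤ :=
  toCycle _ (fun x => by
    obtain ⟨W, hW, hfin⟩ := LF.of_cycle a (ι x)
    exact ⟨ι ⁻¹ᵁ W, hW, (hfin.preimage ι.isOpenEmbedding.injective.injOn).subset fun y hy => hy⟩ :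
      LF fun x => a (ι x))

@[simp] theorem resCyc_apply (a : AlgebraicCycle T ℤ) (x : U) : resCyc ι a x = a (ι x) := rfl

theorem resCyc_mem (h : Cyc.DeltaCompat ι δU δ) {k : ℤ} {a : AlgebraicCycle T ℤ} (ha : a ∈ Cyc.Zk T δ k) :
    resCyc ι a ∈ Cyc.Zk U δU k := fun x hx => ha _ fun e => hx (by rw [residueDegree_openImm ι h]; exact e)

/-- Restriction of Chow groups to an open subscheme. -/
theorem exists_resHom (h : Cyc.DeltaCompat ι δU δ) (hT : Cyc.IsSetup T δ) (k : ℤ) :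
    ∃ φ : ChowOps.CH T δ k →+ ChowOps.CH U δU k, ∀ (a : AlgebraicCycle T ℤ) (ha : a ∈ Cyc.Zk T δ k)
      (b : AlgebraicCycle U ℤ) (hb : b ∈ Cyc.Zk U δU k), (∀ x, b x = a (ι x)) →
        φ (ChowOps.cl a ha) = ChowOps.cl b hb := by
  haveI := hT.1
  haveI := (setup_openImm ι h hT).1
  have hU := (setup_openImm ι h hT).2.2
  obtain ⟨φ, hφ⟩ := exists_chHom hU (δ := δ) (k := k) (l := k) (resCyc ι) (fun a ha => resCyc_mem ι h ha)
    (fun a b _ _ => by ext x; rfl) (fun a _ ha => by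
      have h0 := CycDiv.ratEquivZero_pullFun ι hU hT.2.2 (shift_openImm ι h) k a ha (resCyc ι a)
        (by rw [pullFun_openImm ι h]; rfl)
      rw [show k + ((0 : ℕ) : ℤ) = k by simp] at h0
      exact RZ.of_ratEquivZero hU h0)
  exact ⟨φ, fun a ha b hb e => (hφ a ha).trans (Bivar.cl_congr (by ext x; exact (e x).symm) _ _)⟩

def resHom (h : Cyc.DeltaCompat ι δU δ) (hT : Cyc.IsSetup T δ) (k : ℤ) :
    ChowOps.CH T δ k →+ ChowOps.CH U δU k :=
  (exists_resHom ι h hT k).choose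

theorem resHom_cl (h : Cyc.DeltaCompat ι δU δ) (hT : Cyc.IsSetup T δ) {k : ℤ} {a : AlgebraicCycle T ℤ}
    (ha : a ∈ Cyc.Zk T δ k) {b : AlgebraicCycle U ℤ} (hb : b ∈ Cyc.Zk U δU k) (e : ∀ x, b x = a (ι x)) :
    resHom ι h hT k (ChowOps.cl a ha) = ChowOps.cl b hb :=
  (exists_resHom ι h hT k).choose_spec a ha b hb e

omit ι in
/-- Cycles glue over a covering by disjoint open subschemes. -/
theorem exists_glueCyc {J : Type*} {U : J → Scheme.{u}} (ι : ∀ j, U j ⟶ T) [∀ j, IsOpenImmersion (ι j)]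
    (hdisj : ∀ i j, i ≠ j → Disjoint (Set.range (ι i)) (Set.range (ι j)))
    (hcov : ∀ x, ∃ j, x ∈ Set.range (ι j)) (b : ∀ j, AlgebraicCycle (U j) ℤ) :
    ∃ β : AlgebraicCycle T ℤ, ∀ j x, β (ι j x) = b j x := by
  classical
  choose jx w hw using hcov
  have key : ∀ (j : J) (x : U j), b (jx (ι j x)) (w (ι j x)) = b j x := by
    intro j x
    have e : jx (ι j x) = j := by_contra fun hne =>
      Set.disjoint_left.1 (hdisj _ _ hne) ⟨_, hw (ι j x)⟩ ⟨x, rfl⟩
    have gen : ∀ (i : J) (z : U i), i = j → ι i z = ι j x → b i z = b j x := by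
      rintro i z rfl hz
      rw [(ι i).isOpenEmbedding.injective hz]
    exact gen _ _ e (hw _)
  refine ⟨toCycle (fun y => b (jx y) (w y)) fun y => ?_, key⟩
  obtain ⟨W, hW, hfin⟩ := LF.of_cycle (b (jx y)) (w y)
  refine ⟨ι (jx y) ''ᵁ W, ⟨w y, hW, hw y⟩, (hfin.image (ι (jx y))).subset ?_⟩
  rintro z ⟨hz1, hz2⟩
  obtain ⟨v, hv, rfl⟩ := hz1
  exact ⟨v, ⟨hv, by
    have hz2' : b (jx (ι (jx y) v)) (w (ι (jx y) v)) ≠ 0 := hz2
    rwa [key] at hz2'⟩, rfl⟩

omit ι in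
/-- The Chow group of a disjoint union is the product of those of the pieces. -/
theorem bijective_res {J : Type*} {U : J → Scheme.{u}} {δU : ∀ j, U j → ℤ} (ι : ∀ j, U j ⟶ T)
    [∀ j, IsOpenImmersion (ι j)]
    (hdisj : ∀ i j, i ≠ j → Disjoint (Set.range (ι i)) (Set.range (ι j)))
    (hcov : ∀ x, ∃ j, x ∈ Set.range (ι j)) (h : ∀ j, Cyc.DeltaCompat (ι j) (δU j) δ) (hT : Cyc.IsSetup T δ)
    (k : ℤ) : Function.Bijective (AddMonoidHom.pi fun j => resHom (ι j) (h j) hT k) := by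
  classical
  haveI := hT.1
  haveI : ∀ j, IsClosedImmersion (ι j) := isClosedImmersion_of_disjoint_opens _ ι hdisj hcov
  refine ⟨(injective_iff_map_eq_zero _).2 fun c hc => ?_, fun b => ?_⟩
  · obtain ⟨β, hβ, rfl⟩ := Bivar.exists_rep c
    refine (cl_eq_of_ratEquiv hβ (ChowOps.zk _ _ _).zero_mem (ratEquiv_of_RZ hT.2.2
      (rz_glue (fun j => (ι j).opensRange) hdisj hcov (a := ⇑β) fun j => ?_) fun x => by simp)).trans
        Bivar.cl_zero
    haveI := (setup_openImm (ι j) (h j) hT).1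
    have hdim := (setup_openImm (ι j) (h j) hT).2.2
    have hm := resCyc_mem (ι j) (h j) hβ
    have h0 : ChowOps.cl (resCyc (ι j) β) hm = 0 :=
      (resHom_cl (ι j) (h j) hT hβ hm fun _ => rfl).symm.trans (congrFun hc j)
    have hr : Cyc.RatEquiv (δU j) k (resCyc (ι j) β) 0 :=
      ratEquiv_of_cl_eq' hdim (hα := hm) (hβ := (ChowOps.zk _ _ _).zero_mem) (h0.trans Bivar.cl_zero.symm)
    have hr' : Cyc.RatEquivZero (δU j) k (resCyc (ι j) β - 0) := hr
    rw [sub_zero] at hr'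
    have hR := RZ.of_ratEquivZero hdim hr'
    rw [residueDegree_openImm (ι j) (h j)] at hR
    refine ⟨fun x => if x ∈ Set.range (ι j) then β x else 0,
      rz_push (ι j) hT.2.2 hR (fun d => if_pos ⟨d, rfl⟩) fun x hx => if_neg hx, fun x hx => ?_⟩
    exact if_pos hx
  · choose β hβ hb using fun j => Bivar.exists_rep (b j)
    obtain ⟨γ, hγ⟩ := exists_glueCyc ι hdisj hcov β
    have hm : γ ∈ Cyc.Zk T δ k := fun x hx => by
      obtain ⟨j, y, rfl⟩ := hcov x
      rw [hγ]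
      exact hβ j y fun e => hx (by rwa [residueDegree_openImm (ι j) (h j)] at e)
    exact ⟨ChowOps.cl γ hm, funext fun j =>
      (resHom_cl (ι j) (h j) hT hm (hβ j) fun x => (hγ j x).symm).trans (hb j)⟩

omit ι in
theorem cl_cast {k k' : ℤ} (e : k = k') {Y X : Scheme.{u}} {δY : Y → ℤ} {δX : X → ℤ} {p : ℤ}
    (op : ∀ k : ℤ, ChowOps.CH Y δY k →+ ChowOps.CH X δX (k - p)) {a : AlgebraicCycle Y ℤ}
    {b : AlgebraicCycle X ℤ} (ha : a ∈ Cyc.Zk Y δY k) (ha' : a ∈ Cyc.Zk Y δY k')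
    (hb : b ∈ Cyc.Zk X δX (k - p)) (hb' : b ∈ Cyc.Zk X δX (k' - p))
    (h : op k (ChowOps.cl a ha) = ChowOps.cl b hb) : op k' (ChowOps.cl a ha') = ChowOps.cl b hb' := by
  subst e
  exact h

variable {X Y : Scheme.{u}} {f : X ⟶ Y} {δX : X → ℤ} {δY : Y → ℤ} {p : ℤ}

omit ι in
/-- A bivariant class commutes with restriction to open pieces. -/
theorem op_res (hX : Cyc.IsSetup X δX) (hY : Cyc.IsSetup Y δY) (c : Bivar.Cl p f δX δY)
    (s t : Bivar.Sq f δX δY) (h : t.Y' ⟶ s.Y') [IsOpenImmersion h] (h' : t.X' ⟶ s.X') [IsOpenImmersion h']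
    (w₁ : h ≫ s.g = t.g) (w₂ : h' ≫ s.f' = t.f' ≫ h) (w₃ : h' ≫ s.g' = t.g') (k : ℤ)
    (a : ChowOps.CH s.Y' s.δY' k) :
    c.op t k (resHom h (sq_compat_hom w₁) (sq_setupY hY s) k a) =
      resHom h' (sq_compat_hom' w₃) (sq_setupX hX s) (k - p) (c.op s k a) := by
  obtain ⟨α, hα, rfl⟩ := Bivar.exists_rep a
  haveI : Flat h := inferInstance
  haveI : Flat h' := inferInstance
  obtain ⟨β, hβ, e, H⟩ := c.pull s t h h' 0 (hasRelDim_openImm _) (hasRelDim_openImm _) w₁ w₂ w₃ k α hα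
  have hm := resCyc_mem h (sq_compat_hom w₁) hα
  have hm' : resCyc h α ∈ Cyc.Zk t.Y' t.δY' (k + ((0 : ℕ) : ℤ)) := by
    rw [show k + ((0 : ℕ) : ℤ) = k by simp]; exact hm
  obtain ⟨β₁, hβ₁, hc, e₁⟩ := H (resCyc h α) (pullFun_openImm h (sq_compat_hom w₁) ⇑α).symm hm'
  have hn : β₁ ∈ Cyc.Zk t.X' t.δX' (k - p) := by
    rw [show k - p = k + ((0 : ℕ) : ℤ) - p by simp]; exact hβ₁
  rw [resHom_cl h (sq_compat_hom w₁) (sq_setupY hY s) hα hm fun _ => rfl,
    cl_cast (show k + ((0 : ℕ) : ℤ) = k by simp) (c.op t) hm' hm hβ₁ hn e₁, e]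
  exact (resHom_cl h' (sq_compat_hom' w₃) (sq_setupX hX s) hβ hn fun x => by
    rw [congrFun hc x, pullFun_openImm h' (sq_compat_hom' w₃)]).symm

end GrothLib.BivClopen
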